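import Cfsg.Agent.H199.PslAut
import Cfsg.Agent.H690.LThreeFour
import Cfsg.Agent.S0157
import Cfsg.Agent.Blocks.Basic

/-!
# S4933, own characteristic, `PSL_n(F)`: the 2-transitive character on points (helper695)

* `fixed_eq` : the number of fixed points on `ℙ(F^n)` is invariant under `Psi g * phi σ`;
* `pts` : the irreducible character `x ↦ |Fix(x)| - 1`;
* `deg_pts` : its degree is `q + q² + .. + q^(n-1)`.
-/

set_option autoImplicit false

open Cfsg Subgroup Matrix MulAction
open Cfsg.Agent.ClassicalGeometry.AutPSL.Root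
open Cfsg.Agent.ClassicalGeometry.AutPSL.Auto
open Cfsg.Agent.ClassicalGeometry.AutPSL.Main
open Cfsg.Agent.H199.PslAut

namespace Cfsg.Agent.H695.HT

variable {F : Type*} [Field F] {n : ℕ}

/-- the semilinear map `v ↦ g σ(v)` -/
def slm (g : GL (Fin n) F) (σ : F ≃+* F) : (Fin n → F) →ₛₗ[(σ : F →+* F)] (Fin n → F) where
  toFun v := (g : Matrix (Fin n) (Fin n) F) *ᵥ (fun i => σ (v i))
  map_add' u v := by
    rw [← mulVec_add]
    congr 1
    funext i
    exact map_add σ _ _
  map_smul' c v := by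
    rw [← mulVec_smul]
    congr 1
    funext i
    exact map_mul σ _ _

theorem slm_apply (g : GL (Fin n) F) (σ : F ≃+* F) (v : Fin n → F) :
    slm g σ v = (g : Matrix (Fin n) (Fin n) F) *ᵥ (fun i => σ (v i)) := rfl

theorem slm_injective (g : GL (Fin n) F) (σ : F ≃+* F) : Function.Injective (slm g σ) := by
  intro u v h
  rw [slm_apply, slm_apply] at h
  have h1 := congrArg (fun w => ((g⁻¹ : GL (Fin n) F) : Matrix (Fin n) (Fin n) F) *ᵥ w) h
  simp only [mulVec_mulVec, ← Units.val_mul, inv_mul_cancel, Units.val_one, one_mulVec] at h1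
  funext i
  exact σ.injective (congrFun h1 i)

/-- the induced map of the points -/
def mapP (g : GL (Fin n) F) (σ : F ≃+* F) : Projectivization F (Fin n → F) → Projectivization F (Fin n → F) :=
  Projectivization.map (slm g σ) (slm_injective g σ)

theorem mapP_injective (g : GL (Fin n) F) (σ : F ≃+* F) : Function.Injective (mapP g σ) := by
  let _ := RingHomInvPair.of_ringEquiv σ
  exact Projectivization.map_injective (slm g σ) (slm_injective g σ)

theorem slm_smul (g : GL (Fin n) F) (σ : F ≃+* F) (s : Matrix.SpecialLinearGroup (Fin n) F) (v : Fin n → F) :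
    ((cj g (fld σ s) : Matrix.SpecialLinearGroup (Fin n) F) : Matrix (Fin n) (Fin n) F) *ᵥ slm g σ v =
      slm g σ ((s : Matrix (Fin n) (Fin n) F) *ᵥ v) := by
  rw [slm_apply, slm_apply, coe_cj, mulVec_mulVec, mul_assoc, ← Units.val_mul, inv_mul_cancel, Units.val_one, mul_one,
    ← mulVec_mulVec]
  congr 1
  funext i
  rw [mulVec, mulVec, dotProduct, dotProduct, map_sum]
  refine Finset.sum_congr rfl fun j _ => ?_
  rw [coe_fld_apply, map_mul]

theorem mapP_smul (g : GL (Fin n) F) (σ : F ≃+* F) (s : Matrix.SpecialLinearGroup (Fin n) F)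
    (x : Projectivization F (Fin n → F)) : pr (cj g (fld σ s)) • mapP g σ x = mapP g σ (pr s • x) := by
  induction x using Projectivization.ind with
  | h v hv =>
    have h1 : ∀ (t : Matrix.SpecialLinearGroup (Fin n) F) (w : Fin n → F) (hw : w ≠ 0),
        pr t • Projectivization.mk F w hw = Projectivization.mk F ((t : Matrix (Fin n) (Fin n) F) *ᵥ w)
          (by
            have h2 := (smul_ne_zero_iff_ne (a := t)).2 hw
            exact h2) := fun t w hw => rfl
    unfold mapP
    rw [Projectivization.map_mk, h1, h1, Projectivization.map_mk]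
    congr 1
    exact slm_smul g σ s v

variable [Finite F]

theorem fixed_le (g : GL (Fin n) F) (σ : F ≃+* F) (x : Matrix.ProjectiveSpecialLinearGroup (Fin n) F) :
    Nat.card (fixedBy (Projectivization F (Fin n → F)) x) ≤
      Nat.card (fixedBy (Projectivization F (Fin n → F)) (Psi n F g (phi n F σ x))) := by
  obtain ⟨s, rfl⟩ := pr_surjective x
  rw [phi_pr, Psi_pr]
  refine Nat.card_le_card_of_injective (fun y => ⟨mapP g σ y.1, ?_⟩) fun y z h => ?_
  · change pr (cj g (fld σ s)) • mapP g σ y.1 = mapP g σ y.1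
    rw [mapP_smul, y.2]
  · exact Subtype.ext (mapP_injective g σ (congrArg Subtype.val h))

/-- **The fixed points under automorphisms.** -/
theorem fixed_eq (g : GL (Fin n) F) (σ : F ≃+* F) (x : Matrix.ProjectiveSpecialLinearGroup (Fin n) F) :
    Nat.card (fixedBy (Projectivization F (Fin n → F)) (Psi n F g (phi n F σ x))) =
      Nat.card (fixedBy (Projectivization F (Fin n → F)) x) := by
  refine le_antisymm ?_ (fixed_le g σ x)
  have h1 := fixed_le (mapGL σ⁻¹ g⁻¹) σ⁻¹ (Psi n F g (phi n F σ x))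
  have h2 : Psi n F (mapGL σ⁻¹ g⁻¹) (phi n F σ⁻¹ (Psi n F g (phi n F σ x))) = x := by
    change (Psi n F (mapGL σ⁻¹ g⁻¹) * phi n F σ⁻¹ * (Psi n F g * phi n F σ)) x = x
    rw [← phi_mul_Psi]
    have h3 : phi n F σ⁻¹ * Psi n F g⁻¹ * (Psi n F g * phi n F σ) = 1 := by
      rw [map_inv, map_inv]
      group
    rw [h3, MulAut.one_apply]
  rwa [h2] at h1

theorem card_pts (hn : 1 ≤ n) : Nat.card (Projectivization F (Fin n → F)) =
    1 + Nat.card F * ∑ i ∈ Finset.range (n - 1), Nat.card F ^ i := by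
  obtain ⟨m, rfl⟩ : ∃ m, n = m + 1 := ⟨n - 1, by omega⟩
  rw [Projectivization.card_of_finrank F (Fin (m + 1) → F) (n := m + 1) (by simp), Finset.sum_range_succ',
    Nat.add_sub_cancel, Finset.mul_sum, pow_zero, add_comm]
  congr 1
  exact Finset.sum_congr rfl fun i _ => by rw [pow_succ, mul_comm]

theorem pts_irr (hn : 2 ≤ n) : IsIrrCharacter (Matrix.ProjectiveSpecialLinearGroup (Fin n) F)
    (fun x => (Nat.card (fixedBy (Projectivization F (Fin n → F)) x) : ℂ) - 1) := by
  have h2 := H690.LThreeFour.two_trans n F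
  have h1 : IsPretransitive (Matrix.ProjectiveSpecialLinearGroup (Fin n) F)
      (Projectivization F (Fin n → F)) := isPretransitive_of_is_two_pretransitive
  refine (S0157.result (Projectivization F (Fin n → F)) ?_).2 h2
  rw [card_pts (by omega)]
  have h3 : 0 < Nat.card F := Nat.card_pos
  have h4 : 0 < ∑ i ∈ Finset.range (n - 1), Nat.card F ^ i :=
    Finset.sum_pos (fun i _ => pow_pos h3 i) ⟨0, Finset.mem_range.2 (by omega)⟩
  have := Nat.mul_pos h3 h4
  omega

/-- the 2-transitive character on points -/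
noncomputable def pts (n : ℕ) (F : Type*) [Field F] [Finite F] (hn : 2 ≤ n) :
    IrrCharacter (Matrix.ProjectiveSpecialLinearGroup (Fin n) F) := ⟨_, pts_irr hn⟩

theorem pts_apply (hn : 2 ≤ n) (x : Matrix.ProjectiveSpecialLinearGroup (Fin n) F) :
    (pts n F hn : Matrix.ProjectiveSpecialLinearGroup (Fin n) F → ℂ) x =
      (Nat.card (fixedBy (Projectivization F (Fin n → F)) x) : ℂ) - 1 := rfl

theorem deg_pts (hn : 2 ≤ n) : charDegree (pts n F hn : Matrix.ProjectiveSpecialLinearGroup (Fin n) F → ℂ) =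
    Nat.card F * ∑ i ∈ Finset.range (n - 1), Nat.card F ^ i := by
  have h1 := Blocks.Basic.irr_one_eq_charDegree (pts n F hn).2
  rw [pts_apply, fixedBy_one_eq_univ, Nat.card_univ, card_pts (by omega)] at h1
  have h2 : ((Nat.card F * ∑ i ∈ Finset.range (n - 1), Nat.card F ^ i : ℕ) : ℂ) =
      (charDegree (pts n F hn : Matrix.ProjectiveSpecialLinearGroup (Fin n) F → ℂ) : ℂ) := by
    rw [← h1]
    push_cast
    ring
  exact_mod_cast h2.symm

theorem vd_pts {p f : ℕ} [hp : Fact p.Prime] (hn : 2 ≤ n) (hf : Nat.card F = p ^ f) (hf0 : f ≠ 0) :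
    (charDegree (pts n F hn : Matrix.ProjectiveSpecialLinearGroup (Fin n) F → ℂ)).factorization p = f := by
  rw [deg_pts, hf]
  have h1 : ¬ p ∣ ∑ i ∈ Finset.range (n - 1), (p ^ f) ^ i := by
    obtain ⟨m, hm⟩ : ∃ m, n - 1 = m + 1 := ⟨n - 2, by omega⟩
    rw [hm, Finset.sum_range_succ', pow_zero]
    intro h
    have h2 : p ∣ ∑ i ∈ Finset.range m, (p ^ f) ^ (i + 1) :=
      Finset.dvd_sum fun i _ => (dvd_pow_self p hf0).trans (dvd_pow_self _ (Nat.succ_ne_zero i))
    exact hp.out.one_lt.ne' (Nat.dvd_one.1 ((Nat.dvd_add_right h2).1 h))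
  have h0 : (∑ i ∈ Finset.range (n - 1), (p ^ f) ^ i) ≠ 0 := fun h => h1 (h ▸ dvd_zero p)
  rw [Nat.factorization_mul (pow_ne_zero _ hp.out.ne_zero) h0, Finsupp.add_apply, hp.out.factorization_pow,
    Finsupp.single_eq_same, Nat.factorization_eq_zero_of_not_dvd h1, add_zero]

end Cfsg.Agent.H695.HT
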